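import Groth.Agent.AlgSpPts.ProperSubspace
import Groth.Agent.AlgSpDM.UnramMono
import Groth.Agent.AlgSpDM.Finite

/-!
# Finite unions of closed subspaces proper over a base
-/

set_option autoImplicit false
set_option backward.isDefEq.respectTransparency false
set_option backward.isDefEq.respectTransparency.types false

universe u

open CategoryTheory CategoryTheory.Limits AlgebraicGeometry AlgSp Groth.Agent.AlgSpLib Groth.Agent.AlgSpPts

namespace Groth.Agent.AlgSpProper

variable {S : Scheme.{u}}

/-- Universal closedness is inherited from finitely many jointly surjective pieces. -/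
theorem isUnivClosedMor_of_finite_cover {ι : Type*} [Finite ι] {W G : Space S} (R : ι → Space S)
    (r : ∀ k, R k ⟶ W) (h : W ⟶ G) (hs : ∀ w, ∃ k, w ∈ Set.range (Points.map (r k).hom))
    (hc : ∀ k, IsUnivClosedMor (r k ≫ h).hom) : IsUnivClosedMor h.hom := by
  intro T W' hT g fst snd sq A hA
  let q : ∀ k, pullback (r k).hom fst ⟶ W' := fun k => pullback.snd (r k).hom fst
  have hq : ∀ k, IsClosed (Points.map (q k ≫ snd) '' (Points.map (q k) ⁻¹' A)) := fun k =>
    hc k hT g (pullback.fst (r k).hom fst) (q k ≫ snd)
      ((IsPullback.of_hasPullback (r k).hom fst).flip.paste_horiz sq.flip).flip _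
      (hA.preimage (Points.continuous_map _))
  have e : Points.map snd '' A = ⋃ k, Points.map (q k ≫ snd) '' (Points.map (q k) ⁻¹' A) := by
    refine Set.Subset.antisymm ?_ ?_
    · rintro _ ⟨x, hx, rfl⟩
      obtain ⟨k, y, hy⟩ := hs (Points.map fst x)
      obtain ⟨z, -, hz⟩ := exists_point_of_isPullback (IsPullback.of_hasPullback (r k).hom fst) hy
      have hz' : Points.map (q k) z = x := hz
      exact Set.mem_iUnion.2 ⟨k, z, show Points.map (q k) z ∈ A from hz' ▸ hx,
        by rw [Points.map_comp, hz']⟩
    · refine Set.iUnion_subset fun k => ?_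
      rintro _ ⟨z, hz, rfl⟩
      exact ⟨_, hz, (Points.map_comp _ _ _).symm⟩
  rw [e]
  exact isClosed_iUnion_of_finite hq

/-- A morphism locally of finite type, covered by finitely many closed subspaces which are proper over the
base, is proper. -/
theorem isProperMor_of_finite_cover {ι : Type*} [Finite ι] {W B : Space S} (R : ι → Space S)
    (r : ∀ k, R k ⟶ W) (g : W ⟶ B) (hr : ∀ k, RepWith @IsClosedImmersion (r k).hom)
    (hs : ∀ w, ∃ k, w ∈ Set.range (Points.map (r k).hom)) (hg : LocP @LocallyOfFiniteType g.hom)
    (hp : ∀ k, IsProperMor (r k ≫ g).hom) : IsProperMor g.hom := by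
  refine AlgSpDM.isProperMor_of_univClosed_lft g
    (isUnivClosedMor_of_finite_cover R r g hs fun k => (hp k).2.2) ?_ hg
  let D : Space S := ⟨pullback g.hom g.hom, isAlgSpace_pullback W.property W.property B.property _ _⟩
  let δ : W ⟶ D := ⟨pullback.diagonal g.hom⟩
  have : Mono δ.hom := inferInstanceAs (Mono (pullback.diagonal g.hom))
  refine AlgSpDM.closedImmersion_of_univClosed_lft_mono δ (isUnivClosedMor_of_finite_cover R r δ hs fun k => ?_)
    (locP_diagonal (fun f g (_ : LocallyOfFiniteType (f ≫ g)) => locallyOfFiniteType_of_comp f g) W.property g.hom)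
  let m := pullback.map ((r k).hom ≫ g.hom) ((r k).hom ≫ g.hom) g.hom g.hom (r k).hom (r k).hom (𝟙 _)
    (Category.comp_id _) (Category.comp_id _)
  have hm : RepWith @IsClosedImmersion m :=
    MorphismProperty.pullbackMap (P := RepWith (S := S) @IsClosedImmersion) (hr k) (hr k) rfl rfl
  have e : (r k).hom ≫ pullback.diagonal g.hom = pullback.diagonal ((r k).hom ≫ g.hom) ≫ m := by
    apply pullback.hom_ext <;> simp [m]
  show IsUnivClosedMor ((r k).hom ≫ pullback.diagonal g.hom)
  rw [e]
  exact (isProperMor_of_closedImmersion (repWith_comp ((hp k).1) hm)).2.2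

end Groth.Agent.AlgSpProper
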